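import Cfsg.Agent.H324.FC.Mat

/-!
# S5764, [B-C2U1]: block lemmas (helper324)
-/

set_option autoImplicit false

namespace Cfsg.Agent.H324.FC

universe u

variable {K : Type u} [Field K] {n : ℕ}

/-- the relation of `blk`, blocks of size at least 3 -/
theorem rel_blk' {Q : Fin n → Fin n → Prop} {m : ℕ} (hQ : Part Q m) (hm : 3 ≤ m) {c : K} (hc : c ≠ 0)
    {E : Fin n → K} (hE : ∀ i, E i ≠ 0) {a b : Fin n} (hab : a ≠ b) : Rel (blk c Q E) a b ↔ Q a b := by
  constructor
  · rintro ⟨k, h1, h2⟩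
    rcases blk_ne h1 with rfl | h1
    · rcases blk_ne h2 with rfl | h2
      · exact absurd rfl hab
      · exact h2
    · rcases blk_ne h2 with rfl | h2
      · exact hQ.symm _ _ h1
      · exact hQ.trans _ _ _ (hQ.symm _ _ h1) h2
  · intro h
    obtain ⟨l, h1, h2, h3⟩ := hQ.third hm h
    refine ⟨l, ?_, ?_⟩
    · rw [blk_off h2 (hQ.symm _ _ h1)]
      exact mul_ne_zero (mul_ne_zero (hE l) hc) (inv_ne_zero (hE a))
    · rw [blk_off h3 (hQ.trans _ _ _ (hQ.symm _ _ h1) h)]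
      exact mul_ne_zero (mul_ne_zero (hE l) hc) (inv_ne_zero (hE b))

theorem rel_perm {τ : K ≃+* K} {π : Equiv.Perm (Fin n)} {σ : K →+* K} {t : Fin n → Fin n → K} (ht : Mon t)
    {Q : Fin n → Fin n → Prop} {m : ℕ} (hQ : Part Q m) (hm : 3 ≤ m) {c : K} (hc : c ≠ 0)
    {E : Fin n → K} (hE : ∀ i, E i ≠ 0) (h : Cmp τ (blk c Q E) π σ t) {a b : Fin n} (hab : a ≠ b) :
    Q a b ↔ Q (π a) (π b) := by
  rw [← rel_blk' hQ hm hc hE hab, ← rel_blk' hQ hm hc hE (fun h' => hab (π.injective h'))]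
  exact h.rel ht a b

theorem blk3 {τ : K ≃+* K} {π : Equiv.Perm (Fin n)} {σ : K →+* K} {t : Fin n → Fin n → K} (ht : Mon t)
    {Q : Fin n → Fin n → Prop} (hQ : Part Q 3) {c : K} (hc : c ≠ 0) (hc1 : 1 + c ≠ 0)
    (hN : τ (1 + c) * (1 + c) ≠ τ c * c) {E : Fin n → K} (hE : ∀ i, E i * τ (E i) = 1)
    (h : Cmp τ (blk c Q E) π σ t) {a b : Fin n} (hab : a ≠ b) (hQab : Q a b) :
    t a b * σ (E a * (E b)⁻¹) = E (π a) * (E (π b))⁻¹ := by
  have hE0 : ∀ i, E i ≠ 0 := fun i h => by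
    have := hE i
    rw [h, zero_mul] at this
    exact zero_ne_one this
  have hEi : ∀ i, (τ (E i))⁻¹ = E i := fun i => (eq_inv_of_mul_eq_one_left (hE i)).symm
  have hτ0 : ∀ {x : K}, x ≠ 0 → τ x ≠ 0 := fun hx => by
    rw [Ne, map_eq_zero]
    exact hx
  obtain ⟨π', h⟩ := h
  set A := τ (1 + c) * (1 + c) with hA
  set C := τ c * c with hC
  have hA0 : A ≠ 0 := mul_ne_zero (hτ0 hc1) hc1
  have hC0 : C ≠ 0 := mul_ne_zero (hτ0 hc) hc
  -- norms of the entries
  have nd : ∀ i, Q i i → τ (blk c Q E i i) * blk c Q E i i = A := fun i hi => by rw [blk_diag hE0 hi]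
  have no2 : ∀ i j k, i ≠ j → i ≠ k → Q i j → Q i k →
      τ (blk c Q E i j) * blk c Q E i k = C * (E j * (E k)⁻¹) := fun i j k hij hik h1 h2 => by
    rw [blk_off hij h1, blk_off hik h2, map_mul, map_mul, map_inv₀, hEi j]
    have h3 : τ (E i) * E i = 1 := by rw [mul_comm]; exact hE i
    calc τ (E i) * τ c * E j * (E i * c * (E k)⁻¹) = (τ (E i) * E i) * (τ c * c) * (E j * (E k)⁻¹) := by ring
      _ = C * (E j * (E k)⁻¹) := by rw [h3, one_mul]
  have no : ∀ i j, i ≠ j → Q i j → τ (blk c Q E i j) * blk c Q E i j = C := fun i j hij h1 => by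
    rw [no2 i j j hij hij h1 h1, mul_inv_cancel₀ (hE0 j), mul_one]
  have ne0 : ∀ i j, τ (blk c Q E i j) * blk c Q E i j ≠ 0 → i = j ∨ Q i j := fun i j h1 => by
    refine blk_ne (c := c) (E := E) fun h2 => h1 ?_
    rw [h2, mul_zero]
  have hs : ∀ j i, σ (τ (blk c Q E j i) * blk c Q E j i) =
      τ (blk c Q E (π' j) (π i)) * blk c Q E (π' j) (π i) := fun j i => by
    have h1 := h j i i
    rwa [ht.self, one_mul] at h1
  have hσ0 : ∀ {x : K}, x ≠ 0 → σ x ≠ 0 := fun hx => by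
    rw [Ne, map_eq_zero]
    exact hx
  -- the rows are permuted in the same way
  have key : ∀ j, Q j j → π' j = π j := by
    intro j hj
    by_contra hne
    have h1 := hs j j
    rw [nd j hj] at h1
    have h2 : Q (π' j) (π j) := by
      rcases ne0 (π' j) (π j) (h1 ▸ hσ0 hA0) with h2 | h2
      · exact absurd h2 hne
      · exact h2
    rw [no _ _ hne h2] at h1
    have hk : Q (π' j) (π' j) := hQ.trans _ _ _ h2 (hQ.symm _ _ h2)
    obtain ⟨i, hi⟩ : ∃ i, π i = π' j := ⟨π.symm (π' j), π.apply_symm_apply _⟩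
    have h3 := hs j i
    rw [hi, nd _ hk] at h3
    have hji : j ≠ i := by
      rintro rfl
      exact hne hi.symm
    have h4 : Q j i := by
      rcases ne0 j i (fun h5 => hA0 (by rw [← h3, h5, map_zero])) with h5 | h5
      · exact absurd h5 hji
      · exact h5
    rw [no _ _ hji h4] at h3
    obtain ⟨l, hl1, hl2, hl3⟩ := hQ.third le_rfl h4
    have h5 := hs j l
    rw [no _ _ hl2.symm hl1] at h5
    have h6 : π' j ≠ π l := by
      rw [← hi]
      exact fun h7 => hl3 (π.injective h7).symm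
    have h7 : Q (π' j) (π l) := by
      rcases ne0 (π' j) (π l) (h5 ▸ hσ0 hC0) with h8 | h8
      · exact absurd h8 h6
      · exact h8
    rw [no _ _ h6 h7] at h5
    exact hN (h3.symm.trans h5)
  obtain ⟨l, hl1, hl2, hl3⟩ := hQ.third le_rfl hQab
  have hll : Q l l := hQ.trans _ _ _ (hQ.symm _ _ hl1) hl1
  have hla : Q l a := hQ.symm _ _ hl1
  have hlb : Q l b := hQ.trans _ _ _ hla hQab
  have h1 := h l a b
  have h2 := hs l a
  have h3 := hs l b
  rw [key l hll] at h1 h2 h3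
  have n1 : π l ≠ π a := fun h' => hl2 (π.injective h')
  have n2 : π l ≠ π b := fun h' => hl3 (π.injective h')
  rw [no _ _ hl2 hla] at h2
  rw [no _ _ hl3 hlb] at h3
  have q1 : Q (π l) (π a) := by
    rcases ne0 _ _ (h2 ▸ hσ0 hC0) with h8 | h8
    · exact absurd h8 n1
    · exact h8
  have q2 : Q (π l) (π b) := by
    rcases ne0 _ _ (h3 ▸ hσ0 hC0) with h8 | h8
    · exact absurd h8 n2
    · exact h8
  rw [no _ _ n1 q1] at h2
  rw [no2 _ _ _ hl2 hl3 hla hlb, no2 _ _ _ n1 n2 q1 q2, map_mul, h2] at h1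
  have h4 : C * (t a b * σ (E a * (E b)⁻¹)) = C * (E (π a) * (E (π b))⁻¹) := by
    rw [← h1]; ring
  exact mul_left_cancel₀ hC0 h4

/-- the class of `a` has no more than `3` elements -/
theorem Part.mem3 {Q : Fin n → Fin n → Prop} (hQ : Part Q 3) {a b d : Fin n} (hab : a ≠ b) (had : a ≠ d)
    (hbd : b ≠ d) (h1 : Q a b) (h2 : Q a d) {k : Fin n} (hk : Q a k) : k = a ∨ k = b ∨ k = d := by
  classical
  by_contra h3
  push Not at h3
  obtain ⟨h3, h4, h5⟩ := h3
  have haa : Q a a := hQ.trans _ _ _ h1 (hQ.symm _ _ h1)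
  have h6 := hQ.card a haa
  rw [Nat.card_eq_fintype_card, Fintype.card_subtype] at h6
  have h7 : ({a, b, d, k} : Finset (Fin n)) ⊆ Finset.univ.filter (Q a) := by
    intro x hx
    simp only [Finset.mem_insert, Finset.mem_singleton] at hx
    rw [Finset.mem_filter]
    refine ⟨Finset.mem_univ _, ?_⟩
    rcases hx with rfl | rfl | rfl | rfl
    · exact haa
    · exact h1
    · exact h2
    · exact hk
  have h8 := Finset.card_le_card h7
  have h9 : ({a, b, d, k} : Finset (Fin n)).card = 4 := by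
    rw [Finset.card_insert_of_notMem, Finset.card_insert_of_notMem, Finset.card_insert_of_notMem,
      Finset.card_singleton]
    · simp only [Finset.mem_singleton]; exact h5.symm
    · simp only [Finset.mem_insert, Finset.mem_singleton, not_or]; exact ⟨hbd, h4.symm⟩
    · simp only [Finset.mem_insert, Finset.mem_singleton, not_or]; exact ⟨hab, had, h3.symm⟩
  rw [h9] at h8
  have h10 : (Finset.univ.filter (Q a)).card = 3 := by convert h6
  rw [h10] at h8
  omega

/-- `|K| = 4`, blocks `1 + ω J` of size 3 -/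
theorem blk3two {τ : K ≃+* K} {σ : K →+* K} {t : Fin n → Fin n → K} (ht : Mon t)
    {Q : Fin n → Fin n → Prop} (hQ : Part Q 3) (h2 : (2 : K) = 0) {ω : K} (hω : ω ^ 2 + ω + 1 = 0)
    (hτ : τ ω = 1 + ω) (h : Cmp τ (blk ω Q fun _ => 1) 1 σ t) {a b d : Fin n} (hab : a ≠ b) (had : a ≠ d)
    (hbd : b ≠ d) (h1 : Q a b) (h3 : Q a d) : t a b * t a d * σ ω = ω := by
  have hω0 : ω ≠ 0 := by
    rintro rfl
    simp at hω
  have hω1 : 1 + ω ≠ 0 := by
    intro h4
    have : ω ^ 2 + ω + 1 = ω ^ 2 + (1 + ω) := by ring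
    rw [this, h4, add_zero] at hω
    exact hω0 (pow_eq_zero_iff (two_ne_zero) |>.1 hω)
  have hτ1 : τ (1 + ω) = ω := by
    rw [map_add, map_one, hτ]
    linear_combination h2
  have hE0 : ∀ i : Fin n, (fun _ : Fin n => (1 : K)) i ≠ 0 := fun _ => one_ne_zero
  have dg : ∀ i, Q i i → blk ω Q (fun _ => 1) i i = 1 + ω := fun i hi => blk_diag hE0 hi
  have of : ∀ i j, i ≠ j → Q i j → blk ω Q (fun _ => 1) i j = ω := fun i j hij hi => by
    rw [blk_off hij hi]
    simp
  have haa : Q a a := hQ.trans _ _ _ h1 (hQ.symm _ _ h1)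
  have hbb : Q b b := hQ.trans _ _ _ (hQ.symm _ _ h1) h1
  have hdd : Q d d := hQ.trans _ _ _ (hQ.symm _ _ h3) h3
  have hba : Q b a := hQ.symm _ _ h1
  have hda : Q d a := hQ.symm _ _ h3
  have hbd' : Q b d := hQ.trans _ _ _ hba h3
  have hdb' : Q d b := hQ.symm _ _ hbd'
  obtain ⟨π', h⟩ := h
  have e0 := h a a a
  have e1 := h a a b
  have e2 := h a a d
  simp only [Equiv.Perm.coe_one, id_eq] at e0 e1 e2
  rw [ht.self, one_mul, dg a haa, hτ1] at e0
  rw [dg a haa, of a b hab h1, hτ1] at e1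
  rw [dg a haa, of a d had h3, hτ1] at e2
  set k := π' a
  have hk : k = a ∨ k = b ∨ k = d := by
    have h5 : blk ω Q (fun _ => 1) k a ≠ 0 := by
      intro h6
      rw [h6, mul_zero] at e0
      rw [map_eq_zero] at e0
      exact mul_ne_zero hω0 hω1 e0
    rcases blk_ne h5 with h6 | h6
    · left; exact h6
    · exact hQ.mem3 hab had hbd h1 h3 (hQ.symm _ _ h6)
  have hs3 : σ ω ^ 2 + σ ω + 1 = 0 := by
    have := congrArg σ hω
    simpa using this
  have hmul : t a b * t a d * (σ ω ^ 4) = (τ (blk ω Q (fun _ => 1) k a)) ^ 2 * blk ω Q (fun _ => 1) k b *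
      blk ω Q (fun _ => 1) k d := by
    rw [map_mul] at e1 e2
    linear_combination e1 * (t a d * (σ ω * σ ω)) +
      (τ (blk ω Q (fun _ => 1) k a) * blk ω Q (fun _ => 1) k b) * e2
  have h4 : σ ω ^ 4 = σ ω := by
    linear_combination (σ ω ^ 2 - σ ω) * hs3
  rw [h4] at hmul
  rw [hmul]
  have hω4 : ω ^ 4 = ω := by linear_combination (ω ^ 2 - ω) * hω
  rcases hk with hk | hk | hk
  · rw [hk, dg a haa, of a b hab h1, of a d had h3, hτ1]
    linear_combination hω4
  · rw [hk, of b a hab.symm hba, dg b hbb, of b d hbd hbd', hτ]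
    linear_combination (ω ^ 2 + 2 * ω) * hω - ω * h2
  · rw [hk, of d a had.symm hda, of d b hbd.symm hdb', dg d hdd, hτ]
    linear_combination (ω ^ 2 + 2 * ω) * hω - ω * h2

/-- characteristic 2, blocks `1 + J` of size `m ≥ 4`, even -/
theorem blk4 {τ : K ≃+* K} {σ : K →+* K} {t : Fin n → Fin n → K} (ht : Mon t)
    {Q : Fin n → Fin n → Prop} {m : ℕ} (hQ : Part Q m) (hm : 3 ≤ m) (h2 : (2 : K) = 0)
    (h : Cmp τ (blk 1 Q fun _ => 1) 1 σ t) {a b : Fin n} (hab : a ≠ b) (h1 : Q a b) : t a b = 1 := by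
  have hE0 : ∀ i : Fin n, (fun _ : Fin n => (1 : K)) i ≠ 0 := fun _ => one_ne_zero
  have dg : ∀ i, Q i i → blk (1 : K) Q (fun _ => 1) i i = 0 := fun i hi => by
    rw [blk_diag hE0 hi]
    linear_combination h2
  have of : ∀ i j, i ≠ j → Q i j → blk (1 : K) Q (fun _ => 1) i j = 1 := fun i j hij hi => by
    rw [blk_off hij hi]
    simp
  obtain ⟨l, hl1, hl2, hl3⟩ := hQ.third hm h1
  have hll : Q l l := hQ.trans _ _ _ (hQ.symm _ _ hl1) hl1
  have hla : Q l a := hQ.symm _ _ hl1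
  have hlb : Q l b := hQ.trans _ _ _ hla h1
  obtain ⟨π', h⟩ := h
  have e1 := h l a b
  have e2 := h l l l
  have e3 := h l b b
  simp only [Equiv.Perm.coe_one, id_eq] at e1 e2 e3
  rw [dg l hll, mul_zero, map_zero, mul_zero] at e2
  rw [of l a hl2 hla, of l b hl3 hlb, map_one, mul_one, map_one, mul_one] at e1
  have hk : π' l = l := by
    by_contra hne
    have h3 : Q (π' l) l := by
      have h4 : blk (1 : K) Q (fun _ => 1) (π' l) b ≠ 0 := by
        intro h5
        rw [h5, mul_zero, of l b hl3 hlb, map_one, mul_one, map_one, mul_one] at e3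
        exact ht.ne b b e3
      rcases blk_ne h4 with h5 | h5
      · rw [h5]
        exact hQ.symm _ _ hlb
      · exact hQ.trans _ _ _ h5 (hQ.symm _ _ hlb)
    rw [of _ _ hne h3] at e2
    simp at e2
  rw [hk, of l a hl2 hla, of l b hl3 hlb, map_one, mul_one] at e1
  exact e1

end Cfsg.Agent.H324.FC
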