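import Mathlib

/-!
# S5764, [B-C2U1]: finite fields with an involution (helper324)
-/

set_option autoImplicit false

namespace Cfsg.Agent.H324.FC

universe u

variable {K : Type u} [Field K] [Finite K]

/-- an involution of a finite field is `x ↦ x ^ q`, `|K| = q ^ 2` -/
theorem exists_q (τ : K ≃+* K) (hinv : ∀ a, τ (τ a) = a) (hne : ∃ a, τ a ≠ a) :
    ∃ q, 2 ≤ q ∧ Nat.card K = q ^ 2 ∧ ∀ x, τ x = x ^ q := by
  obtain ⟨p, hp⟩ := CharP.exists K
  haveI : Fact p.Prime := ⟨(CharP.char_is_prime_or_zero K p).resolve_right (CharP.char_ne_zero_of_finite K p)⟩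
  letI : Algebra (ZMod p) K := ZMod.algebra K p
  let τ' : K ≃ₐ[ZMod p] K := AlgEquiv.ofRingEquiv (f := τ) (fun r => by
    have : (τ : K →+* K).comp (algebraMap (ZMod p) K) = algebraMap (ZMod p) K := Subsingleton.elim _ _
    exact congrArg (fun f : ZMod p →+* K => f r) this)
  have hτ' : ∀ x, τ' x = τ x := fun x => rfl
  set m := Module.finrank (ZMod p) K with hm
  obtain ⟨i, hi⟩ := (FiniteField.bijective_frobeniusAlgEquivOfAlgebraic_pow (ZMod p) K).2 τ'
  set φ := FiniteField.frobeniusAlgEquivOfAlgebraic (ZMod p) K with hφ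
  have hi' : φ ^ (i : ℕ) = τ' := hi
  have hpow : ∀ (j : ℕ) (x : K), (φ ^ j) x = x ^ p ^ j := by
    intro j x
    have h1 := FiniteField.coe_frobeniusAlgEquivOfAlgebraic_iterate (ZMod p) K j
    have h2 : (φ ^ j) x = (φ^[j]) x := by
      rw [AlgEquiv.coe_pow]
    rw [h2, h1, ZMod.card]
  have hτ2 : τ' * τ' = 1 := by
    ext x
    exact hinv x
  have h2 : φ ^ (2 * (i : ℕ)) = 1 := by
    rw [two_mul, pow_add, hi', hτ2]
  have h3 : m ∣ 2 * (i : ℕ) := by
    have h5 := orderOf_dvd_of_pow_eq_one h2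
    have h6 : orderOf φ = m := FiniteField.orderOf_frobeniusAlgEquivOfAlgebraic (ZMod p) K
    rwa [h6] at h5
  have hi0 : (i : ℕ) ≠ 0 := by
    intro h0
    obtain ⟨a, ha⟩ := hne
    apply ha
    rw [← hτ', ← hi', h0, pow_zero]
    rfl
  have him : (i : ℕ) < m := i.2
  have h4 : 2 * (i : ℕ) = m := by
    obtain ⟨c, hc⟩ := h3
    have : c = 1 := by
      rcases Nat.lt_trichotomy c 1 with h | h | h
      · have : c = 0 := by omega
        rw [this, mul_zero] at hc
        omega
      · exact h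
      · have : m * 2 ≤ m * c := Nat.mul_le_mul_left _ h
        omega
    rw [this, mul_one] at hc
    exact hc
  refine ⟨p ^ (i : ℕ), ?_, ?_, fun x => ?_⟩
  · calc 2 ≤ p := (Fact.out : p.Prime).two_le
      _ = p ^ 1 := (pow_one p).symm
      _ ≤ p ^ (i : ℕ) := Nat.pow_le_pow_right (Fact.out : p.Prime).pos (by omega)
  · rw [← pow_mul, mul_comm, h4]
    haveI := Fintype.ofFinite K
    rw [Nat.card_eq_fintype_card, Module.card_eq_pow_finrank (K := ZMod p) (V := K), ZMod.card]
  · rw [← hτ', ← hi', hpow]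

/-- a generator -/
theorem exists_gen (K : Type u) [Field K] [Finite K] : ∃ γ : K, γ ≠ 0 ∧ (∀ x : K, x ≠ 0 → ∃ k : ℕ, x = γ ^ k) ∧
    ∀ k : ℕ, γ ^ k = 1 → Nat.card K - 1 ∣ k := by
  classical
  haveI := Fintype.ofFinite K
  obtain ⟨g, hg⟩ := IsCyclic.exists_generator (α := Kˣ)
  refine ⟨g, g.ne_zero, ?_, ?_⟩
  · intro x hx
    obtain ⟨k, hk⟩ := (mem_powers_iff_mem_zpowers (x := g)).2 (hg (Units.mk0 x hx))
    refine ⟨k, ?_⟩
    have := congrArg (fun u : Kˣ => (u : K)) hk
    simpa using this.symm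
  · intro k hk
    have h1 : g ^ k = 1 := by
      ext
      simpa using hk
    have h2 := orderOf_dvd_of_pow_eq_one h1
    rw [orderOf_eq_card_of_forall_mem_zpowers hg, Nat.card_eq_fintype_card, Fintype.card_units] at h2
    rwa [Nat.card_eq_fintype_card]

/-- the norm is surjective -/
theorem exists_norm (τ : K ≃+* K) (hinv : ∀ a, τ (τ a) = a) (hne : ∃ a, τ a ≠ a) {c : K} (hc : c ≠ 0)
    (hc1 : τ c = c) : ∃ x, x * τ x = c := by
  obtain ⟨q, hq, hK, hτ⟩ := exists_q τ hinv hne
  obtain ⟨γ, hγ, hgen, hord⟩ := exists_gen K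
  obtain ⟨k, rfl⟩ := hgen c hc
  rw [hτ] at hc1
  have h1 : γ ^ (k * (q - 1)) = 1 := by
    have h2 : γ ^ (k * (q - 1)) * γ ^ k = γ ^ k := by
      rw [← pow_add, ← Nat.mul_succ, Nat.succ_eq_add_one, Nat.sub_add_cancel (by omega), pow_mul]
      exact hc1
    exact mul_right_cancel₀ hc (h2.trans (one_mul _).symm)
  have h3 := hord _ h1
  have h4 : Nat.card K - 1 = (q + 1) * (q - 1) := by
    rw [hK]
    obtain ⟨r, rfl⟩ : ∃ r, q = r + 2 := ⟨q - 2, by omega⟩
    have : (r + 2) ^ 2 = (r + 2 + 1) * (r + 2 - 1) + 1 := by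
      rw [show r + 2 - 1 = r + 1 by omega]
      ring
    omega
  rw [h4] at h3
  have h5 : q + 1 ∣ k := Nat.dvd_of_mul_dvd_mul_right (by omega) h3
  obtain ⟨j, rfl⟩ := h5
  refine ⟨γ ^ j, ?_⟩
  rw [hτ, ← pow_mul, ← pow_add]
  congr 1
  ring

/-- a norm one element moved by all non-trivial automorphisms, of order at least 4 if `|K| ≠ 4` -/
theorem exists_xi (τ : K ≃+* K) (hinv : ∀ a, τ (τ a) = a) (hne : ∃ a, τ a ≠ a) :
    ∃ ξ : K, ξ * τ ξ = 1 ∧ (Nat.card K ≠ 4 → ξ ^ 3 ≠ 1) ∧ (Nat.card K = 4 → ξ ^ 2 + ξ + 1 = 0) ∧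
      ∀ σ : K →+* K, σ ξ = ξ → σ = RingHom.id K := by
  obtain ⟨q, hq, hK, hτ⟩ := exists_q τ hinv hne
  obtain ⟨γ, hγ, hgen, hord⟩ := exists_gen K
  have h4 : Nat.card K - 1 = (q + 1) * (q - 1) := by
    rw [hK]
    obtain ⟨r, rfl⟩ : ∃ r, q = r + 2 := ⟨q - 2, by omega⟩
    have : (r + 2) ^ 2 = (r + 2 + 1) * (r + 2 - 1) + 1 := by
      rw [show r + 2 - 1 = r + 1 by omega]
      ring
    omega
  have hτγ : τ γ = γ ^ (q - 1) * γ := by
    rw [hτ, ← pow_succ, Nat.sub_add_cancel (by omega)]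
  have hτγ0 : τ γ ≠ 0 := by rw [Ne, map_eq_zero]; exact hγ
  have hξ : γ ^ (q - 1) = τ γ / γ := by
    rw [hτγ]
    field_simp
  refine ⟨γ ^ (q - 1), ?_, ?_, ?_, ?_⟩
  · rw [hξ, map_div₀, hinv]
    field_simp
  · intro h h1
    rw [← pow_mul] at h1
    have h2 := hord _ h1
    rw [h4, mul_comm (q - 1) 3] at h2
    have h3 : q + 1 ∣ 3 := Nat.dvd_of_mul_dvd_mul_right (by omega) h2
    have h5 := Nat.le_of_dvd (by norm_num) h3
    apply h
    rw [hK, show q = 2 by omega]
    norm_num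
  · intro h
    have hq2 : q = 2 := by
      rw [hK] at h
      nlinarith
    subst hq2
    have h1 : γ ^ 3 = 1 := by
      haveI := Fintype.ofFinite K
      have h2 := FiniteField.pow_card_sub_one_eq_one γ hγ
      rw [← Nat.card_eq_fintype_card, h] at h2
      exact h2
    have h2 : γ ≠ 1 := by
      intro h3
      have h5 := hord 1 (by rw [h3, pow_one])
      rw [h4] at h5
      norm_num at h5
    simp only [Nat.reduceSub, pow_one]
    have h3 : (γ - 1) * (γ ^ 2 + γ + 1) = 0 := by linear_combination h1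
    exact (mul_eq_zero.1 h3).resolve_left (sub_ne_zero.2 h2)
  · intro σ hσ
    have hcomm : ∀ x, σ (τ x) = τ (σ x) := fun x => by rw [hτ, hτ, map_pow]
    have hσγ0 : σ γ ≠ 0 := by rw [Ne, map_eq_zero]; exact hγ
    have h1 : τ (σ γ / γ) = σ γ / γ := by
      rw [hξ, map_div₀, hcomm] at hσ
      rw [map_div₀]
      field_simp at hσ ⊢
      linear_combination hσ
    have h2 : ∀ x, ∃ l, τ l = l ∧ σ x = l * x := by
      intro x
      by_cases hx : x = 0
      · exact ⟨1, map_one τ, by rw [hx]; simp⟩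
      obtain ⟨k, rfl⟩ := hgen x hx
      refine ⟨(σ γ / γ) ^ k, by rw [map_pow, h1], ?_⟩
      rw [map_pow, div_pow]
      field_simp
    have h3 : ∀ x, τ x ≠ x → σ x = x := by
      intro x hx
      obtain ⟨l, hl, h5⟩ := h2 x
      obtain ⟨r, hr, h6⟩ := h2 (1 + x)
      rw [map_add, map_one, h5] at h6
      have h7 : (1 - r) = (r - l) * x := by linear_combination h6
      have h8 : r = l := by
        by_contra h9
        have h10 : r - l ≠ 0 := sub_ne_zero.2 h9
        apply hx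
        have h11 : x = (1 - r) / (r - l) := by
          rw [h7]
          field_simp
        rw [h11, map_div₀, map_sub, map_sub, map_one, hr, hl]
      rw [h8, sub_self, zero_mul] at h7
      rw [h5, ← sub_eq_zero.1 h7, one_mul]
    obtain ⟨θ, hθ⟩ := hne
    ext x
    rw [RingHom.id_apply]
    by_cases hx : τ x = x
    · have h5 := h3 (x + θ) (by
        rw [map_add, hx]
        intro h6
        exact hθ (add_left_cancel h6))
      rw [map_add, h3 θ hθ] at h5
      exact add_right_cancel h5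
    · exact h3 x hx

/-- the coefficient `c` for `|K| ≠ 4` -/
theorem exists_c (τ : K ≃+* K) (hinv : ∀ a, τ (τ a) = a) (hne : ∃ a, τ a ≠ a) (h4 : Nat.card K ≠ 4) :
    ∃ c : K, c ≠ 0 ∧ 1 + c ≠ 0 ∧ c + τ c + (3 : ℕ) * (c * τ c) = 0 ∧ τ (1 + c) * (1 + c) ≠ τ c * c := by
  by_cases h3 : (3 : K) = 0
  · obtain ⟨θ, hθ⟩ := hne
    have h2 : (2 : K) ≠ 0 := by
      intro h2
      have : (1 : K) = 0 := by linear_combination h3 - h2
      exact one_ne_zero this
    have hc0 : θ - τ θ ≠ 0 := sub_ne_zero.2 (Ne.symm hθ)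
    have hτc : τ (θ - τ θ) = - (θ - τ θ) := by rw [map_sub, hinv]; ring
    refine ⟨θ - τ θ, hc0, ?_, ?_, ?_⟩
    · intro h5
      have h6 : θ - τ θ = -1 := by linear_combination h5
      rw [h6, map_neg, map_one] at hτc
      apply h2
      linear_combination (-1 : K) * hτc
    · rw [hτc]
      push_cast
      rw [h3]
      ring
    · rw [map_add, map_one, hτc]
      intro h5
      apply one_ne_zero (α := K)
      linear_combination h5
  · obtain ⟨ξ, h1, h2, -, -⟩ := exists_xi τ hinv hne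
    have hξ3 := h2 h4
    have hξ0 : ξ ≠ 0 := fun h => by
      rw [h, zero_mul] at h1
      exact zero_ne_one h1
    have hτξ : τ ξ = ξ⁻¹ := eq_inv_of_mul_eq_one_right h1
    have hτ3 : τ 3 = 3 := by
      have := map_natCast τ 3
      simpa using this
    have hτc : τ ((ξ - 1) / 3) = (ξ⁻¹ - 1) / 3 := by rw [map_div₀, map_sub, map_one, hτξ, hτ3]
    refine ⟨(ξ - 1) / 3, ?_, ?_, ?_, ?_⟩
    · intro h5
      rw [div_eq_zero_iff] at h5
      rcases h5 with h5 | h5
      · apply hξ3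
        rw [sub_eq_zero.1 h5, one_pow]
      · exact h3 h5
    · intro h5
      have h6 : ξ = -2 := by
        field_simp at h5
        linear_combination h5
      have hτ2 : τ 2 = 2 := by
        have := map_natCast τ 2
        simpa using this
      rw [h6, map_neg, hτ2] at h1
      apply h3
      linear_combination h1
    · rw [hτc]
      push_cast
      field_simp
      ring
    · rw [map_add, map_one, hτc]
      intro h5
      apply hξ3
      have h6 : ξ ^ 2 + ξ + 1 = 0 := by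
        field_simp at h5
        have h7 : (3 : K) * (ξ ^ 2 + ξ + 1) = 0 := by linear_combination h5
        exact (mul_eq_zero.1 h7).resolve_left h3
      linear_combination (ξ - 1) * h6

/-- the case `|K| = 4` -/
theorem card_four (h4 : Nat.card K = 4) : (2 : K) = 0 := by
  haveI := Fintype.ofFinite K
  have h1 : ((Nat.card K : ℕ) : K) = 0 := by
    rw [Nat.card_eq_fintype_card]
    exact FiniteField.cast_card_eq_zero K
  rw [h4] at h1
  have h2 : (2 : K) * 2 = 0 := by
    push_cast at h1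
    linear_combination h1
  exact mul_self_eq_zero.1 h2

end Cfsg.Agent.H324.FC
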