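import Cfsg.Agent.H324.FC.Rig
import Cfsg.Agent.H412.FC.BBridge
import Cfsg.Agent.H786.FC.Parts

/-!
# S5764, [B-C2U1]: orthonormal frames of unitary spaces (helper324)
-/

set_option autoImplicit false

namespace Cfsg.Agent.H324.FC

open Cfsg.Agent.H198.FC Cfsg.Agent.H412.FC
open Cfsg.Agent.H200.FC (Ph Ph_apply Ph_apply' up mem_up up_le)

universe u v

section mat

variable {K : Type u} [Field K] {n : ℕ}

theorem Uni.mul_eq {τ : K ≃+* K} {x : Matrix (Fin n) (Fin n) K} (h : Uni τ x) :
    x * ((τ : K →+* K).mapMatrix x).transpose = 1 := by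
  ext i j
  rw [Matrix.mul_apply, Matrix.one_apply, ← h i j]
  rfl

theorem Uni.det {τ : K ≃+* K} {x : Matrix (Fin n) (Fin n) K} (h : Uni τ x) : x.det * τ x.det = 1 := by
  have h1 := congrArg Matrix.det h.mul_eq
  rw [Matrix.det_mul, Matrix.det_transpose, ← RingHom.map_det, Matrix.det_one] at h1
  exact h1

/-- the columns are orthonormal as well -/
theorem Uni.col {τ : K ≃+* K} {x : Matrix (Fin n) (Fin n) K} (h : Uni τ x) (i j : Fin n) :
    ∑ k, x k i * τ (x k j) = if i = j then 1 else 0 := by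
  have h1 := mul_eq_one_comm.1 h.mul_eq
  have h2 := congrFun (congrFun h1 j) i
  rw [Matrix.mul_apply, Matrix.one_apply] at h2
  rw [show (if i = j then (1 : K) else 0) = if j = i then 1 else 0 by simp [eq_comm], ← h2]
  exact Finset.sum_congr rfl fun k _ => mul_comm _ _

/-- the version with determinants 1 -/
theorem exists_rigid' [Finite K] {τ : K ≃+* K} (hinv : ∀ a, τ (τ a) = a) (hne : ∃ a, τ a ≠ a) (hn : 3 ≤ n)
    (h34 : n = 3 → Nat.card K ≠ 4) : ∃ X : Fin 4 → Matrix (Fin n) (Fin n) K, (∀ r, Uni τ (X r)) ∧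
      (∀ r, (X r).det = 1) ∧
      ∀ (π : Equiv.Perm (Fin n)) (σ : K →+* K) (t : Fin n → Fin n → K), Mon t → (∀ r, Cmp τ (X r) π σ t) →
        π = 1 ∧ σ = RingHom.id K ∧ ∀ a b, t a b = 1 := by
  obtain ⟨X, hX, hr⟩ := exists_rigid hinv hne hn h34
  let s : Fin 4 → Fin n → K := fun r i => if i = ⟨0, by omega⟩ then (X r).det⁻¹ else 1
  have hs : ∀ r i, τ (s r i) * s r i = 1 := by
    intro r i
    by_cases h : i = ⟨0, by omega⟩
    · simp only [s]
      rw [if_pos h, map_inv₀, ← mul_inv, mul_comm, (hX r).det, inv_one]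
    · simp only [s]
      rw [if_neg h, map_one, mul_one]
  have hprod : ∀ r, ∏ i, s r i = (X r).det⁻¹ := by
    intro r
    rw [Finset.prod_ite_eq' Finset.univ (⟨0, by omega⟩ : Fin n) (fun _ => (X r).det⁻¹), if_pos (Finset.mem_univ _)]
  refine ⟨fun r => Matrix.diagonal (s r) * X r, fun r i j => ?_, fun r => ?_, fun π σ t ht hC => hr π σ t ht ?_⟩
  · have h1 : ∀ k, (Matrix.diagonal (s r) * X r) i k * τ ((Matrix.diagonal (s r) * X r) j k) =
        s r i * τ (s r j) * (X r i k * τ (X r j k)) := fun k => by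
      rw [Matrix.diagonal_mul, Matrix.diagonal_mul, map_mul]
      ring
    rw [Finset.sum_congr rfl fun k _ => h1 k, ← Finset.mul_sum, hX r i j]
    by_cases hij : i = j
    · rw [if_pos hij, mul_one, hij, mul_comm, hs]
    · rw [if_neg hij, mul_zero]
  · rw [Matrix.det_mul, Matrix.det_diagonal, hprod]
    refine inv_mul_cancel₀ fun h => ?_
    have h1 := (hX r).det
    rw [h, zero_mul] at h1
    exact zero_ne_one h1
  · intro r
    obtain ⟨π', h⟩ := hC r
    refine ⟨π', fun j a b => ?_⟩
    have h1 := h j a b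
    have h2 : ∀ j a b, τ ((Matrix.diagonal (s r) * X r) j a) * (Matrix.diagonal (s r) * X r) j b =
        τ (X r j a) * X r j b := fun j a b => by
      rw [Matrix.diagonal_mul, Matrix.diagonal_mul, map_mul]
      calc τ (s r j) * τ (X r j a) * (s r j * X r j b) = (τ (s r j) * s r j) * (τ (X r j a) * X r j b) := by ring
        _ = _ := by rw [hs, one_mul]
    rw [h2, h2] at h1
    exact h1

end mat

section frame

variable {K : Type u} [Field K] {V : Type v} [AddCommGroup V] [Module K V]

theorem B_sum_left (b : Cl K V) {ι : Type*} (s : Finset ι) (f : ι → V) (w : V) :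
    b.B (∑ i ∈ s, f i) w = ∑ i ∈ s, b.B (f i) w := by
  classical
  induction s using Finset.induction_on with
  | empty => simpa using B_zero_left b w
  | insert a s ha ih => rw [Finset.sum_insert ha, Finset.sum_insert ha, b.add_left, ih]

theorem B_sum_right (b : Cl K V) {ι : Type*} (s : Finset ι) (f : ι → V) (w : V) :
    b.B w (∑ i ∈ s, f i) = ∑ i ∈ s, b.B w (f i) := by
  classical
  induction s using Finset.induction_on with
  | empty => simpa using B_zero_right b w
  | insert a s ha ih => rw [Finset.sum_insert ha, Finset.sum_insert ha, b.add_right, ih]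

variable {n : ℕ}

/-- `b.B` of combinations of an orthonormal family -/
theorem B_comb (b : Cl K V) {v : Fin n → V} (hv : ∀ i j, b.B (v i) (v j) = if i = j then 1 else 0)
    (f g : Fin n → K) : b.B (∑ i, f i • v i) (∑ j, g j • v j) = ∑ i, f i * b.τ (g i) := by
  rw [B_sum_left]
  refine Finset.sum_congr rfl fun i _ => ?_
  rw [B_sum_right, Finset.sum_eq_single i]
  · rw [b.smul_left, b.smul_right, hv, if_pos rfl, mul_one]
  · intro j _ hj
    rw [b.smul_left, b.smul_right, hv, if_neg (Ne.symm hj), mul_zero, mul_zero]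
  · intro h
    exact absurd (Finset.mem_univ i) h

/-- a linear map preserving `B` on a basis -/
theorem isom_of_basis (b : Cl K V) (v : Module.Basis (Fin n) K V) (x : V →ₗ[K] V)
    (h : ∀ i j, b.B (x (v i)) (x (v j)) = b.B (v i) (v j)) (w w' : V) : b.B (x w) (x w') = b.B w w' := by
  rw [← v.sum_repr w, ← v.sum_repr w', map_sum, map_sum, B_sum_left, B_sum_left]
  refine Finset.sum_congr rfl fun i _ => ?_
  rw [B_sum_right, B_sum_right]
  refine Finset.sum_congr rfl fun j _ => ?_
  rw [map_smul, map_smul, b.smul_left, b.smul_left, b.smul_right, b.smul_right, h]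

/-- **orthonormal frames** -/
theorem fiveBV_frame [Finite K] (b : Cl K V) (hU : b.IsU) (v : Module.Basis (Fin n) K V)
    (hv : ∀ i j, b.B (v i) (v j) = if i = j then 1 else 0) (hn : 3 ≤ n) (h34 : n = 3 → Nat.card K ≠ 4)
    (G : Subgroup (Equiv.Perm V)) (hG : G ≤ Sim b)
    (hfr : ∀ g ∈ G, ∃ (π : Equiv.Perm (Fin n)) (D : Fin n → K), ∀ i, g (v i) = D i • v (π i)) : FiveBV b G := by
  obtain ⟨X, hX, hdet, hr⟩ := exists_rigid' b.invol hU.1 hn h34
  have hu : ∀ r, IsUnit (X r).det := fun r => by rw [hdet]; exact isUnit_one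
  have hx : ∀ r w, Matrix.toLinearEquiv v (X r) (hu r) w = Matrix.toLin v v (X r) w := fun r w => rfl
  have hxv : ∀ r j, Matrix.toLinearEquiv v (X r) (hu r) (v j) = ∑ i, X r i j • v i := fun r j => by
    rw [hx, Matrix.toLin_self]
  have hiso : ∀ r w w', b.B (Matrix.toLinearEquiv v (X r) (hu r) w) (Matrix.toLinearEquiv v (X r) (hu r) w') =
      b.B w w' := by
    intro r w w'
    refine isom_of_basis b v (Matrix.toLin v v (X r)) (fun i j => ?_) w w'
    rw [Matrix.toLin_self, Matrix.toLin_self, B_comb b hv, (hX r).col, hv]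
  refine ⟨fun r => Matrix.toLinearEquiv v (X r) (hu r), fun r => ?_, hiso, fun g hg hgi => ?_⟩
  · have : ((Matrix.toLinearEquiv v (X r) (hu r) : V ≃ₗ[K] V) : V →ₗ[K] V) = Matrix.toLin v v (X r) :=
      LinearMap.ext fun w => rfl
    rw [this, LinearMap.det_toLin, hdet]
  obtain ⟨σ, μ, hs⟩ := hG hg
  obtain ⟨π, D, hD⟩ := hfr g hg
  have hDμ : ∀ i, D i * b.τ (D i) = μ := by
    intro i
    have h1 := hs.form (v i) (v i)
    rw [hD, b.smul_left, b.smul_right, hv, if_pos rfl, mul_one, hv, if_pos rfl, map_one, mul_one] at h1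
    exact h1
  have hD0 : ∀ i, D i ≠ 0 := fun i h => by
    have h1 := hDμ i
    rw [h, zero_mul] at h1
    exact hs.ne h1.symm
  obtain ⟨q, -, -, hq⟩ := exists_q b.τ b.invol hU.1
  have hcomm : ∀ a, b.τ (σ a) = σ (b.τ a) := fun a => by rw [hq, hq, map_pow]
  have hMon : Mon fun i j => D i * (D j)⁻¹ :=
    { ne := fun i j => mul_ne_zero (hD0 i) (inv_ne_zero (hD0 j))
      mul := fun i j k => by
        have := hD0 j
        field_simp }
  have hCmp : ∀ r, Cmp b.τ (X r) π (σ : K →+* K) fun i j => D i * (D j)⁻¹ := by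
    intro r
    have h1 := hgi r
    set x := Matrix.toLinearEquiv v (X r) (hu r) with hxdef
    set g' : Equiv.Perm V := (x.toEquiv : Equiv.Perm V) * g * (x.toEquiv : Equiv.Perm V)⁻¹ with hg'
    obtain ⟨π', D', hD'⟩ := hfr g' h1
    have hg'x : ∀ w, g' (x w) = x (g w) := by
      intro w
      have : (x.toEquiv : Equiv.Perm V)⁻¹ (x w) = w := x.symm_apply_apply w
      change x (g ((x.toEquiv : Equiv.Perm V)⁻¹ (x w))) = x (g w)
      rw [this]
    have hs' : IsSim b g' σ μ :=
      { ne := hs.ne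
        add := fun w w' => by
          obtain ⟨y, rfl⟩ := x.surjective w
          obtain ⟨y', rfl⟩ := x.surjective w'
          rw [← map_add, hg'x, hg'x, hg'x, hs.add, map_add]
        smul := fun a w => by
          obtain ⟨y, rfl⟩ := x.surjective w
          rw [← map_smul, hg'x, hg'x, hs.smul, map_smul]
        form := fun w w' => by
          obtain ⟨y, rfl⟩ := x.surjective w
          obtain ⟨y', rfl⟩ := x.surjective w'
          rw [hg'x, hg'x, hiso, hs.form, hiso] }
    have hD'μ : ∀ i, D' i * b.τ (D' i) = μ := by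
      intro i
      have h1 := hs'.form (v i) (v i)
      rw [hD', b.smul_left, b.smul_right, hv, if_pos rfl, mul_one, hv, if_pos rfl, map_one, mul_one] at h1
      exact h1
    have key : ∀ i j, σ (X r i j) * D' i = D j * X r (π' i) (π j) := by
      intro i j
      have h2 : g' (x (v j)) = x (g (v j)) := hg'x _
      rw [hD, map_smul, hxv, hxv, hs'.map_sum] at h2
      have h3 := congrArg (fun w => b.B w (v (π' i))) h2
      beta_reduce at h3
      rw [B_sum_left, b.smul_left, B_sum_left, Finset.sum_eq_single i, Finset.sum_eq_single (π' i)] at h3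
      · rw [hs'.smul, hD', b.smul_left, b.smul_left, b.smul_left, hv, if_pos rfl, mul_one, mul_one] at h3
        exact h3
      · intro k _ hk
        rw [b.smul_left, hv, if_neg hk, mul_zero]
      · intro h; exact absurd (Finset.mem_univ _) h
      · intro k _ hk
        rw [hs'.smul, hD', b.smul_left, b.smul_left, hv, if_neg (fun h => hk (π'.injective h)), mul_zero, mul_zero]
      · intro h; exact absurd (Finset.mem_univ _) h
    refine ⟨π', fun j a c => ?_⟩
    have e1 := key j c
    have e2 := congrArg b.τ (key j a)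
    rw [map_mul, map_mul, hcomm] at e2
    have e3 := hD'μ j
    have e4 := hDμ a
    have h5 := hD0 c
    change D a * (D c)⁻¹ * σ (b.τ (X r j a) * X r j c) = _
    rw [map_mul]
    have h6 : D a * (σ (b.τ (X r j a)) * σ (X r j c)) * μ =
        D c * (b.τ (X r (π' j) (π a)) * X r (π' j) (π c)) * μ := by
      linear_combination (D a * (σ (b.τ (X r j a)) * σ (X r j c))) * (-1 : K) * e3 +
        (D a * b.τ (D' j) * σ (b.τ (X r j a))) * e1 + (D a * (D c * X r (π' j) (π c))) * e2 +
        (D c * (b.τ (X r (π' j) (π a)) * X r (π' j) (π c))) * e4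
    have h7 := mul_right_cancel₀ hs.ne h6
    field_simp
    linear_combination h7
  obtain ⟨h1, h2, h3⟩ := hr π σ _ hMon hCmp
  have i0 : Fin n := ⟨0, by omega⟩
  refine ⟨Units.mk0 (D i0) (hD0 i0), Equiv.ext fun w => ?_⟩
  rw [hm_apply]
  change g w = D i0 • w
  have hσ : ∀ a, σ a = a := fun a => congrArg (fun f : K →+* K => f a) h2
  have hDi : ∀ i, D i = D i0 := fun i => by
    have h4 := h3 i i0
    have := hD0 i0
    field_simp at h4
    exact h4
  conv_lhs => rw [← v.sum_repr w]
  conv_rhs => rw [← v.sum_repr w]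
  rw [hs.map_sum, Finset.smul_sum]
  refine Finset.sum_congr rfl fun i _ => ?_
  rw [hs.smul, hσ, hD, h1, Equiv.Perm.coe_one, id_eq, hDi, smul_comm]

/-- an orthonormal basis adapted to a family of self-adjoint idempotents of rank 1 -/
theorem exists_onb [Finite K] [Module.Finite K V] (b : Cl K V) (hU : b.IsU) {e : Fin n → R K V}
    (he : CompleteOrthogonalIdempotents e) (had : ∀ i, b.Adj (e i) (e i))
    (hrk : ∀ i, Module.finrank K (LinearMap.range (e i)) = 1) :
    ∃ v : Module.Basis (Fin n) K V, (∀ i j, b.B (v i) (v j) = if i = j then 1 else 0) ∧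
      ∀ i w, ∃ c : K, e i w = c • v i := by
  have hmul : ∀ i j w, i ≠ j → e i (e j w) = 0 := fun i j w hij => by
    have := he.ortho hij
    have h1 := congrArg (fun f : R K V => f w) this
    exact h1
  have hidem : ∀ i w, e i (e i w) = e i w := fun i w => by
    have := he.idem i
    have h1 := congrArg (fun f : R K V => f w) this.eq
    exact h1
  have hsum : ∀ w, ∑ i, e i w = w := fun w => by
    have h1 := congrArg (fun f : R K V => f w) he.complete
    simpa using h1
  have h1 : ∀ i, ∃ u : V, u ≠ 0 ∧ e i u = u ∧ ∀ w, ∃ c : K, e i w = c • u := by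
    intro i
    obtain ⟨⟨u, hu⟩, hu0, hspan⟩ := finrank_eq_one_iff'.1 (hrk i)
    refine ⟨u, fun h => hu0 (Subtype.ext h), ?_, fun w => ?_⟩
    · obtain ⟨y, rfl⟩ := hu
      exact hidem i y
    · obtain ⟨c, hc⟩ := hspan ⟨e i w, ⟨w, rfl⟩⟩
      exact ⟨c, (congrArg Subtype.val hc).symm⟩
  choose u hu0 hue hus using h1
  have horth : ∀ i j, i ≠ j → b.B (u i) (u j) = 0 := fun i j hij => by
    rw [← hue i, had i, ← hue j, hmul i j _ hij, B_zero_right]
  have hself : ∀ i, b.B (u i) (u i) ≠ 0 := by
    intro i h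
    apply hu0 i
    refine b.nondeg _ fun w => ?_
    rw [← hue i, had i]
    obtain ⟨c, hc⟩ := hus i w
    rw [hc, b.smul_right, h, mul_zero]
  have h2 : ∀ i, ∃ y : K, y * b.τ y = (b.B (u i) (u i))⁻¹ := fun i =>
    exists_norm b.τ b.invol hU.1 (inv_ne_zero (hself i)) (by rw [map_inv₀, ← hU.2])
  choose y hy using h2
  have hy0 : ∀ i, y i ≠ 0 := fun i h => by
    have := hy i
    rw [h, zero_mul] at this
    exact inv_ne_zero (hself i) this.symm
  let v : Fin n → V := fun i => y i • u i
  have hv : ∀ i j, b.B (v i) (v j) = if i = j then 1 else 0 := by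
    intro i j
    change b.B (y i • u i) (y j • u j) = _
    rw [b.smul_left, b.smul_right]
    by_cases hij : i = j
    · subst hij
      rw [if_pos rfl, ← mul_assoc, hy, inv_mul_cancel₀ (hself i)]
    · rw [if_neg hij, horth i j hij, mul_zero, mul_zero]
  have hvs : ∀ i w, ∃ c : K, e i w = c • v i := by
    intro i w
    obtain ⟨c, hc⟩ := hus i w
    refine ⟨c * (y i)⁻¹, ?_⟩
    change e i w = (c * (y i)⁻¹) • y i • u i
    rw [hc, smul_smul, mul_assoc, inv_mul_cancel₀ (hy0 i), mul_one]
  have hli : LinearIndependent K v := by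
    rw [Fintype.linearIndependent_iff]
    intro f hf i
    have h3 : b.B (∑ j, f j • v j) (v i) = 0 := by rw [hf, B_zero_left]
    rw [B_sum_left, Finset.sum_eq_single i] at h3
    · rwa [b.smul_left, hv, if_pos rfl, mul_one] at h3
    · intro j _ hj
      rw [b.smul_left, hv, if_neg hj, mul_zero]
    · intro h; exact absurd (Finset.mem_univ _) h
  have hsp : ⊤ ≤ Submodule.span K (Set.range v) := by
    intro w _
    rw [← hsum w]
    refine Submodule.sum_mem _ fun i _ => ?_
    obtain ⟨c, hc⟩ := hvs i w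
    rw [hc]
    exact Submodule.smul_mem _ _ (Submodule.subset_span ⟨i, rfl⟩)
  refine ⟨Module.Basis.mk hli hsp, fun i j => ?_, fun i w => ?_⟩
  · rw [Module.Basis.mk_apply, Module.Basis.mk_apply, hv]
  · rw [Module.Basis.mk_apply]
    exact hvs i w

/-- **[B-C2U1]** -/
theorem fiveB_frame [Finite K] [Module.Finite K V] (b : Cl K V) (hU : b.IsU) (hb : b.Big)
    {S : Subgroup (Equiv.Perm (R K V))} (hS : S ≤ RB b) {e : Fin n → R K V}
    (he : CompleteOrthogonalIdempotents e) (had : ∀ i, b.Adj (e i) (e i))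
    (hrk : ∀ i, Module.finrank K (LinearMap.range (e i)) = 1)
    (hp : ∀ f ∈ S, ∃ π : Equiv.Perm (Fin n), ∀ i, f (e i) = e (π i)) : FiveB b S := by
  obtain ⟨v, hv, hvs⟩ := exists_onb b hU he had hrk
  have hfr : Module.finrank K V = n := by
    rw [Module.finrank_eq_card_basis v, Fintype.card_fin]
  have hb' : 3 ≤ n ∧ (n = 3 → Nat.card K ≠ 4) := by
    rcases hb with h | h
    · rw [hfr] at h
      exact h.2
    · exact absurd h.1 (H786.FC.not_isSp_of_isU hU)
  have : Nontrivial V := Module.nontrivial_of_finrank_pos (R := K) (by omega)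
  refine fiveB_of_up hS (fiveBV_frame b hU v hv hb'.1 hb'.2 (up S) (up_le_Sim hS) fun g hg => ?_)
  have hg' := up_le S hg
  obtain ⟨π, hπ⟩ := hp _ ((mem_up hg').1 hg)
  have h1 : ∀ i, ∃ c : K, g (v i) = c • v (π i) := by
    intro i
    have h2 := Ph_apply' ⟨g, hg'⟩ (e i) (v i)
    rw [hπ i] at h2
    change e (π i) (g (v i)) = g (e i (v i)) at h2
    have h3 : e i (v i) = v i := by
      have hsum : ∑ j, e j (v i) = v i := by
        have h1 := congrArg (fun f : R K V => f (v i)) he.complete
        simpa using h1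
      have h4 : ∀ j, j ≠ i → e j (v i) = 0 := by
        intro j hj
        obtain ⟨c, hc⟩ := hvs j (v i)
        obtain ⟨c', hc'⟩ := hvs j (v j)
        have h5 : b.B (e j (v i)) (v j) = b.B (v i) (e j (v j)) := had j _ _
        rw [hc, hc', b.smul_left, b.smul_right, hv, hv, if_pos rfl, if_neg (Ne.symm hj), mul_zero, mul_one] at h5
        rw [hc, h5, zero_smul]
      rw [Finset.sum_eq_single i (fun j _ hj => h4 j hj) (fun h => absurd (Finset.mem_univ _) h)] at hsum
      exact hsum
    rw [h3] at h2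
    rw [← h2]
    exact hvs _ _
  choose D hD using h1
  exact ⟨π, D, hD⟩

theorem stmtBC2U1 : H786.FC.StmtBC2On.{u, v} true fun d => d = 1 := by
  intro K _ _ V _ _ _ b hk hb S hS _ k d e hd _ _ he had hrk hp
  subst hd
  exact fiveB_frame b (hk.1 rfl) hb hS he had hrk hp

end frame

end Cfsg.Agent.H324.FC
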