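import Mathlib

/-!
# S5764, [B-C2U1]: orthonormal frames of unitary spaces, matrix part (helper324)

Compatibility of the monomial data `(π, σ, t)` of a frame stabilizer with unitary matrices; the matrices used are
`E (1 + c J) E⁻¹`, `J` the matrix of a partial partition into blocks of size `m`, `E` diagonal of norm one.
-/

set_option autoImplicit false

namespace Cfsg.Agent.H324.FC

universe u

open Finset

variable {K : Type u} [Field K] {n : ℕ}

/-- compatibility of the data of a semilinear monomial map with the matrix `x` -/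
def Cmp (τ : K ≃+* K) (x : Matrix (Fin n) (Fin n) K) (π : Equiv.Perm (Fin n)) (σ : K →+* K)
    (t : Fin n → Fin n → K) : Prop :=
  ∃ π' : Equiv.Perm (Fin n), ∀ j a b, t a b * σ (τ (x j a) * x j b) = τ (x (π' j) (π a)) * x (π' j) (π b)

/-- the coefficients of a monomial map -/
structure Mon (t : Fin n → Fin n → K) : Prop where
  ne : ∀ a b, t a b ≠ 0
  mul : ∀ a b c, t a b * t b c = t a c

theorem Mon.self {t : Fin n → Fin n → K} (h : Mon t) (a : Fin n) : t a a = 1 := by
  have h1 := h.mul a a a
  have h2 := h.ne a a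
  field_simp at h1
  exact h1

theorem Mon.symm {t : Fin n → Fin n → K} (h : Mon t) {a b : Fin n} (hab : t a b = 1) : t b a = 1 := by
  have h1 := h.mul a b a
  rw [hab, h.self, one_mul] at h1
  exact h1

theorem Mon.trans {t : Fin n → Fin n → K} (h : Mon t) {a b c : Fin n} (hab : t a b = 1) (hbc : t b c = 1) :
    t a c = 1 := by
  have h1 := h.mul a b c
  rw [hab, hbc, one_mul] at h1
  exact h1.symm

/-- unitary matrices -/
def Uni (τ : K ≃+* K) (x : Matrix (Fin n) (Fin n) K) : Prop :=
  ∀ i j, ∑ k, x i k * τ (x j k) = if i = j then 1 else 0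

/-- columns `a`, `b` of `x` have a common row with non-zero entries -/
def Rel (x : Matrix (Fin n) (Fin n) K) (a b : Fin n) : Prop := ∃ k, x k a ≠ 0 ∧ x k b ≠ 0

theorem Cmp.rel {τ : K ≃+* K} {x : Matrix (Fin n) (Fin n) K} {π : Equiv.Perm (Fin n)} {σ : K →+* K}
    {t : Fin n → Fin n → K} (h : Cmp τ x π σ t) (ht : Mon t) (a b : Fin n) :
    Rel x a b ↔ Rel x (π a) (π b) := by
  obtain ⟨π', h⟩ := h
  have key : ∀ k, (x k a ≠ 0 ∧ x k b ≠ 0) ↔ (x (π' k) (π a) ≠ 0 ∧ x (π' k) (π b) ≠ 0) := by
    intro k
    have h1 := h k a b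
    constructor
    · rintro ⟨ha, hb⟩
      have h2 : t a b * σ (τ (x k a) * x k b) ≠ 0 := by
        refine mul_ne_zero (ht.ne a b) ?_
        rw [Ne, map_eq_zero]
        exact mul_ne_zero (by rw [Ne, map_eq_zero]; exact ha) hb
      rw [h1] at h2
      refine ⟨fun h3 => h2 (by rw [h3]; simp), fun h3 => h2 (by rw [h3]; simp)⟩
    · rintro ⟨ha, hb⟩
      have h2 : τ (x (π' k) (π a)) * x (π' k) (π b) ≠ 0 :=
        mul_ne_zero (by rw [Ne, map_eq_zero]; exact ha) hb
      rw [← h1] at h2
      refine ⟨fun h3 => h2 (by rw [h3]; simp), fun h3 => h2 (by rw [h3]; simp)⟩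
  constructor
  · rintro ⟨k, hk⟩
    exact ⟨π' k, (key k).1 hk⟩
  · rintro ⟨k, hk⟩
    refine ⟨π'.symm k, (key _).2 ?_⟩
    rw [Equiv.apply_symm_apply]
    exact hk

/-- partial partition into blocks of size `m` -/
structure Part (Q : Fin n → Fin n → Prop) (m : ℕ) : Prop where
  symm : ∀ i j, Q i j → Q j i
  trans : ∀ i j k, Q i j → Q j k → Q i k
  card : ∀ i, Q i i → Nat.card {k // Q i k} = m

open Classical in
/-- `E (1 + c J) E⁻¹` -/
noncomputable def blk (c : K) (Q : Fin n → Fin n → Prop) (E : Fin n → K) : Matrix (Fin n) (Fin n) K :=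
  fun i j => E i * ((if i = j then 1 else 0) + (if Q i j then c else 0)) * (E j)⁻¹

open Classical in
theorem blk_diag {c : K} {Q : Fin n → Fin n → Prop} {E : Fin n → K} (hE : ∀ i, E i ≠ 0) {i : Fin n} (h : Q i i) :
    blk c Q E i i = 1 + c := by
  unfold blk
  rw [if_pos rfl, if_pos h]
  field_simp [hE i]

open Classical in
theorem blk_off {c : K} {Q : Fin n → Fin n → Prop} {E : Fin n → K} {i j : Fin n} (hij : i ≠ j) (h : Q i j) :
    blk c Q E i j = E i * c * (E j)⁻¹ := by
  unfold blk
  rw [if_neg hij, if_pos h, zero_add]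

open Classical in
theorem blk_zero {c : K} {Q : Fin n → Fin n → Prop} {E : Fin n → K} {i j : Fin n} (hij : i ≠ j) (h : ¬ Q i j) :
    blk c Q E i j = 0 := by
  unfold blk
  rw [if_neg hij, if_neg h, zero_add, mul_zero, zero_mul]

theorem blk_ne {c : K} {Q : Fin n → Fin n → Prop} {E : Fin n → K} {i j : Fin n} (h : blk c Q E i j ≠ 0) :
    i = j ∨ Q i j := by
  by_contra h1
  push Not at h1
  exact h (blk_zero h1.1 h1.2)

open Classical in
theorem uni_blk {τ : K ≃+* K} {Q : Fin n → Fin n → Prop} {m : ℕ} (hQ : Part Q m) {c : K}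
    (hc : c + τ c + m * (c * τ c) = 0) {E : Fin n → K} (hE : ∀ i, E i * τ (E i) = 1) : Uni τ (blk c Q E) := by
  intro i j
  have hE0 : ∀ i, E i ≠ 0 := fun i h => by
    have := hE i
    rw [h, zero_mul] at this
    exact zero_ne_one this
  have h1 : ∀ k, blk c Q E i k * τ (blk c Q E j k) =
      E i * τ (E j) * ((if i = k then 1 else 0) * (if j = k then 1 else 0) +
        (if i = k then 1 else 0) * (if Q j k then τ c else 0) + (if j = k then 1 else 0) * (if Q i k then c else 0) +
        (if Q i k then c else 0) * (if Q j k then τ c else 0)) := by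
    intro k
    have h2 : (E k)⁻¹ * (τ (E k))⁻¹ = 1 := by
      rw [← mul_inv, hE k, inv_one]
    have h3 : τ ((if j = k then (1 : K) else 0) + (if Q j k then c else 0)) =
        (if j = k then (1 : K) else 0) + (if Q j k then τ c else 0) := by
      rw [map_add]
      congr 1
      · split_ifs <;> simp
      · split_ifs <;> simp
    have h4 : blk c Q E i k * τ (blk c Q E j k) = E i * τ (E j) * ((E k)⁻¹ * (τ (E k))⁻¹) *
        (((if i = k then (1 : K) else 0) + (if Q i k then c else 0)) *
        ((if j = k then (1 : K) else 0) + (if Q j k then τ c else 0))) := by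
      unfold blk
      rw [map_mul, map_mul, h3, map_inv₀]
      ring
    rw [h4, h2]
    ring
  rw [Finset.sum_congr rfl fun k _ => h1 k, ← Finset.mul_sum, Finset.sum_add_distrib, Finset.sum_add_distrib,
    Finset.sum_add_distrib]
  have e1 : ∑ k, (if i = k then (1 : K) else 0) * (if j = k then 1 else 0) = if i = j then 1 else 0 := by
    rw [Finset.sum_eq_single i]
    · by_cases h : i = j
      · simp [h]
      · simp [h, Ne.symm h]
    · intro b _ hb
      rw [if_neg (Ne.symm hb), zero_mul]
    · intro h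
      exact absurd (Finset.mem_univ i) h
  have e2 : ∑ k, (if i = k then (1 : K) else 0) * (if Q j k then τ c else 0) = if Q j i then τ c else 0 := by
    rw [Finset.sum_eq_single i]
    · simp
    · intro b _ hb
      rw [if_neg (Ne.symm hb), zero_mul]
    · intro h
      exact absurd (Finset.mem_univ i) h
  have e3 : ∑ k, (if j = k then (1 : K) else 0) * (if Q i k then c else 0) = if Q i j then c else 0 := by
    rw [Finset.sum_eq_single j]
    · simp
    · intro b _ hb
      rw [if_neg (Ne.symm hb), zero_mul]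
    · intro h
      exact absurd (Finset.mem_univ j) h
  have e4 : ∑ k, (if Q i k then c else 0) * (if Q j k then τ c else 0) =
      if Q i j then (m : K) * (c * τ c) else 0 := by
    by_cases h : Q i j
    · rw [if_pos h]
      have h5 : ∀ k, (if Q i k then c else 0) * (if Q j k then τ c else 0) = if Q i k then c * τ c else 0 := by
        intro k
        by_cases hk : Q i k
        · rw [if_pos hk, if_pos (hQ.trans j i k (hQ.symm _ _ h) hk), if_pos hk]
        · rw [if_neg hk, if_neg hk, zero_mul]
      rw [Finset.sum_congr rfl fun k _ => h5 k, ← Finset.sum_filter, Finset.sum_const, nsmul_eq_mul]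
      congr 2
      rw [← hQ.card i (hQ.trans i j i h (hQ.symm _ _ h)), Nat.card_eq_fintype_card, Fintype.card_subtype]
    · rw [if_neg h]
      refine Finset.sum_eq_zero fun k _ => ?_
      by_cases hk : Q i k
      · rw [if_neg (fun h6 => h (hQ.trans i k j hk (hQ.symm _ _ h6))), mul_zero]
      · rw [if_neg hk, zero_mul]
  rw [e1, e2, e3, e4]
  by_cases hij : i = j
  · subst hij
    rw [hE i, one_mul, if_pos rfl]
    by_cases h : Q i i
    · rw [if_pos h, if_pos h, if_pos h, add_assoc, add_assoc]
      have : τ c + (c + (m : K) * (c * τ c)) = 0 := by linear_combination hc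
      rw [this, add_zero]
    · rw [if_neg h, if_neg h, if_neg h]
      simp
  · rw [if_neg hij]
    by_cases h : Q i j
    · rw [if_pos h, if_pos h, if_pos (hQ.symm _ _ h)]
      have : (0 : K) + τ c + c + (m : K) * (c * τ c) = 0 := by linear_combination hc
      rw [this, mul_zero]
    · rw [if_neg h, if_neg h, if_neg (fun h' => h (hQ.symm _ _ h'))]
      simp

/-- the relation of `blk`, when the diagonal entries are non-zero -/
theorem rel_blk {Q : Fin n → Fin n → Prop} {m : ℕ} (hQ : Part Q m) {c : K} (hc : c ≠ 0) (hc1 : 1 + c ≠ 0)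
    {E : Fin n → K} (hE : ∀ i, E i ≠ 0) {a b : Fin n} (hab : a ≠ b) : Rel (blk c Q E) a b ↔ Q a b := by
  constructor
  · rintro ⟨k, h1, h2⟩
    rcases blk_ne h1 with rfl | h1
    · rcases blk_ne h2 with rfl | h2
      · exact absurd rfl hab
      · exact h2
    · rcases blk_ne h2 with rfl | h2
      · exact hQ.symm _ _ h1
      · exact hQ.trans _ _ _ (hQ.symm _ _ h1) h2
  · intro h
    refine ⟨a, ?_, ?_⟩
    · rw [blk_diag hE (hQ.trans _ _ _ h (hQ.symm _ _ h))]
      exact hc1
    · rw [blk_off hab h]
      exact mul_ne_zero (mul_ne_zero (hE a) hc) (inv_ne_zero (hE b))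

/-- a third element of a block -/
theorem Part.third {Q : Fin n → Fin n → Prop} {m : ℕ} (hQ : Part Q m) (hm : 3 ≤ m) {a b : Fin n} (h : Q a b) :
    ∃ l, Q a l ∧ l ≠ a ∧ l ≠ b := by
  classical
  have haa : Q a a := hQ.trans _ _ _ h (hQ.symm _ _ h)
  have h1 := hQ.card a haa
  by_contra h2
  push Not at h2
  have h3 : ∀ l : {k // Q a k}, l = ⟨a, haa⟩ ∨ l = ⟨b, h⟩ := by
    rintro ⟨l, hl⟩
    by_cases hla : l = a
    · left
      exact Subtype.ext hla
    · right
      exact Subtype.ext (h2 l hl hla)
  have h4 : Nat.card {k // Q a k} ≤ 2 := by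
    rw [Nat.card_eq_fintype_card, ← Finset.card_univ]
    refine le_trans (Finset.card_le_card (t := {⟨a, haa⟩, ⟨b, h⟩}) ?_) Finset.card_le_two
    intro l _
    rw [Finset.mem_insert, Finset.mem_singleton]
    exact h3 l
  omega

end Cfsg.Agent.H324.FC
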