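import Cfsg.Agent.H324.FC.Blocks
import Cfsg.Agent.H324.FC.Fld

/-!
# S5764, [B-C2U1]: four unitary matrices rigidify an orthonormal frame (helper324)
-/

set_option autoImplicit false

namespace Cfsg.Agent.H324.FC

universe u

variable {n : ℕ}

/-- triples `{s, s+1, s+2}` with `s % 3 = r` -/
def tri (n r : ℕ) (i j : Fin n) : Prop :=
  ∃ s : ℕ, s % 3 = r ∧ s + 2 < n ∧ s ≤ i.val ∧ i.val ≤ s + 2 ∧ s ≤ j.val ∧ j.val ≤ s + 2

/-- the initial segment -/
def ini (n m : ℕ) (i j : Fin n) : Prop := i.val < m ∧ j.val < m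

/-- the triple `{0, 1, 3}` -/
def oth (n : ℕ) (i j : Fin n) : Prop := i.val ≠ 2 ∧ j.val ≠ 2

open Classical in
theorem part_tri (n r : ℕ) : Part (tri n r) 3 where
  symm := by
    rintro i j ⟨s, h1, h2, h3, h4, h5, h6⟩
    exact ⟨s, h1, h2, h5, h6, h3, h4⟩
  trans := by
    rintro i j k ⟨s, h1, h2, h3, h4, h5, h6⟩ ⟨s', g1, g2, g3, g4, g5, g6⟩
    have : s = s' := by omega
    subst this
    exact ⟨s, h1, h2, h3, h4, g5, g6⟩
  card := by
    rintro i ⟨s, h1, h2, h3, h4, h5, h6⟩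
    rw [Nat.card_eq_fintype_card, Fintype.card_subtype]
    refine Finset.card_eq_three.2 ⟨⟨s, by omega⟩, ⟨s + 1, by omega⟩, ⟨s + 2, by omega⟩, ?_, ?_, ?_, ?_⟩
    · intro h; have := congrArg Fin.val h; simp at this
    · intro h; have := congrArg Fin.val h; simp at this
    · intro h; have := congrArg Fin.val h; simp at this
    ext k
    simp only [Finset.mem_filter, Finset.mem_univ, true_and, Finset.mem_insert, Finset.mem_singleton, Fin.ext_iff]
    constructor
    · rintro ⟨s', g1, g2, g3, g4, g5, g6⟩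
      omega
    · intro h
      exact ⟨s, h1, h2, h3, h4, by omega, by omega⟩

theorem part_ini {n m : ℕ} (h : m ≤ n) : Part (ini n m) m where
  symm _ _ h := ⟨h.2, h.1⟩
  trans _ _ _ h h' := ⟨h.1, h'.2⟩
  card := by
    rintro i ⟨hi, -⟩
    have e : {k // ini n m i k} ≃ Fin m :=
      { toFun := fun k => ⟨k.1.1, k.2.2⟩
        invFun := fun j => ⟨⟨j.1, by omega⟩, hi, j.2⟩
        left_inv := fun _ => rfl
        right_inv := fun _ => rfl }
    rw [Nat.card_congr e, Nat.card_eq_fintype_card, Fintype.card_fin]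

open Classical in
theorem part_oth : Part (oth 4) 3 where
  symm _ _ h := ⟨h.2, h.1⟩
  trans _ _ _ h h' := ⟨h.1, h'.2⟩
  card := by
    rintro i ⟨hi, -⟩
    rw [Nat.card_eq_fintype_card, Fintype.card_subtype]
    refine Finset.card_eq_three.2 ⟨⟨0, by omega⟩, ⟨1, by omega⟩, ⟨3, by omega⟩, ?_, ?_, ?_, ?_⟩
    · intro h; have := congrArg Fin.val h; simp at this
    · intro h; have := congrArg Fin.val h; simp at this
    · intro h; have := congrArg Fin.val h; simp at this
    ext k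
    simp only [Finset.mem_filter, Finset.mem_univ, true_and, Finset.mem_insert, Finset.mem_singleton, Fin.ext_iff]
    constructor
    · rintro ⟨g1, g2⟩
      have := k.2
      omega
    · intro h
      exact ⟨hi, by omega⟩

/-- the third partition -/
def tq (n : ℕ) (i j : Fin n) : Prop := (n = 4 ∧ oth n i j) ∨ (n ≠ 4 ∧ tri n 2 i j)

theorem part_tq (n : ℕ) : Part (tq n) 3 := by
  by_cases h : n = 4
  · subst h
    have : tq 4 = oth 4 := by
      funext i j
      simp [tq]
    rw [this]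
    exact part_oth
  · have : tq n = tri n 2 := by
      funext i j
      simp [tq, h]
    rw [this]
    exact part_tri n 2

/-- a permutation preserving the partitions is trivial -/
theorem perm_one (hn : 4 ≤ n) (π : Equiv.Perm (Fin n)) (h0' : (π ⟨0, by omega⟩).val < 4)
    (h0 : ∀ a b, a ≠ b → (tri n 0 a b ↔ tri n 0 (π a) (π b)))
    (h1 : ∀ a b, a ≠ b → (tri n 1 a b ↔ tri n 1 (π a) (π b)))
    (h2 : ∀ a b, a ≠ b → (tq n a b ↔ tq n (π a) (π b))) : π = 1 := by
  have hinj : ∀ a b : Fin n, (π a).val = (π b).val → a.val = b.val := fun a b h => by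
    rw [π.injective (Fin.ext h)]
  -- `0`
  have f0 : (π ⟨0, by omega⟩).val = 0 := by
    by_contra hne
    obtain ⟨p, hp1, hp2, hp3⟩ : ∃ p : ℕ, p ≠ (π ⟨0, by omega⟩).val ∧ 1 ≤ p ∧ p ≤ 3 := by
      by_cases h : (π ⟨0, by omega⟩).val = 1
      · exact ⟨2, by omega, by omega, by omega⟩
      · exact ⟨1, by omega, by omega, by omega⟩
    have hb : π (π.symm ⟨p, by omega⟩) = ⟨p, by omega⟩ := π.apply_symm_apply _
    have hb' : (⟨0, by omega⟩ : Fin n) ≠ π.symm ⟨p, by omega⟩ := by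
      intro h
      rw [← h] at hb
      exact hp1 (by rw [hb])
    have h3 := (h1 _ _ hb').2 (by
      rw [hb]
      exact ⟨1, by norm_num, by omega, by omega, by omega, by simp only; omega, by simp only; omega⟩)
    obtain ⟨s, g1, g2, g3, -⟩ := h3
    simp only at g3
    omega
  have m1 : 1 ≤ (π ⟨1, by omega⟩).val ∧ (π ⟨1, by omega⟩).val ≤ 2 := by
    have h3 := (h0 ⟨0, by omega⟩ ⟨1, by omega⟩ (by simp [Fin.ext_iff])).1
      ⟨0, by norm_num, by omega, by simp, by simp, by simp, by simp⟩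
    obtain ⟨s, g1, g2, g3, g4, g5, g6⟩ := h3
    refine ⟨?_, by omega⟩
    rcases Nat.eq_zero_or_pos (π ⟨1, by omega⟩).val with h | h
    · have := hinj ⟨1, by omega⟩ ⟨0, by omega⟩ (by rw [h, f0])
      simp at this
    · exact h
  have m2 : 1 ≤ (π ⟨2, by omega⟩).val ∧ (π ⟨2, by omega⟩).val ≤ 2 := by
    have h3 := (h0 ⟨0, by omega⟩ ⟨2, by omega⟩ (by simp [Fin.ext_iff])).1
      ⟨0, by norm_num, by omega, by simp, by simp, by simp, by simp⟩
    obtain ⟨s, g1, g2, g3, g4, g5, g6⟩ := h3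
    refine ⟨?_, by omega⟩
    rcases Nat.eq_zero_or_pos (π ⟨2, by omega⟩).val with h | h
    · have := hinj ⟨2, by omega⟩ ⟨0, by omega⟩ (by rw [h, f0])
      simp at this
    · exact h
  have f1 : (π ⟨1, by omega⟩).val = 1 := by
    by_contra hne
    have h3 : (π ⟨1, by omega⟩).val = 2 := by omega
    by_cases h4 : n = 4
    · have h5 := (h2 ⟨1, by omega⟩ ⟨0, by omega⟩ (by simp [Fin.ext_iff])).1 (Or.inl ⟨h4, by simp [oth]⟩)
      rcases h5 with h5 | h5
      · exact h5.2.1 h3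
      · exact h5.1 h4
    · have hb : π (π.symm ⟨3, by omega⟩) = ⟨3, by omega⟩ := π.apply_symm_apply _
      have hb' : (⟨1, by omega⟩ : Fin n) ≠ π.symm ⟨3, by omega⟩ := by
        intro h
        rw [← h] at hb
        rw [hb] at h3
        simp at h3
      have h5 := (h2 _ _ hb').2 (by
        rw [hb]
        exact Or.inr ⟨h4, 2, by norm_num, by omega, by omega, by omega, by simp, by simp⟩)
      rcases h5 with h5 | h5
      · exact h4 h5.1
      · obtain ⟨-, s, g1, g2, g3, -⟩ := h5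
        simp only at g3
        omega
  have f2 : (π ⟨2, by omega⟩).val = 2 := by
    by_contra hne
    have h3 : (π ⟨2, by omega⟩).val = 1 := by omega
    have := hinj ⟨2, by omega⟩ ⟨1, by omega⟩ (by rw [h3, f1])
    simp at this
  have key : ∀ k (hk : k < n), (π ⟨k, hk⟩).val = k := by
    intro k
    induction k using Nat.strong_induction_on with
    | _ k ih =>
      intro hk
      rcases Nat.lt_or_ge k 3 with h | h
      · interval_cases k
        · exact f0
        · exact f1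
        · exact f2
      obtain ⟨j, rfl⟩ : ∃ j, k = j + 2 := ⟨k - 2, by omega⟩
      have i1 := ih j (by omega) (by omega)
      have i2 := ih (j + 1) (by omega) (by omega)
      have hne : (⟨j, by omega⟩ : Fin n) ≠ ⟨j + 2, hk⟩ := by simp [Fin.ext_iff]
      have h3 : tri n (j % 3) (π ⟨j, by omega⟩) (π ⟨j + 2, hk⟩) := by
        have h4 : tri n (j % 3) ⟨j, by omega⟩ ⟨j + 2, hk⟩ := ⟨j, rfl, by omega, by simp, by simp, by simp, by simp⟩
        have h5 : j % 3 = 0 ∨ j % 3 = 1 ∨ j % 3 = 2 := by omega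
        rcases h5 with h5 | h5 | h5
        · rw [h5] at h4 ⊢
          exact (h0 _ _ hne).1 h4
        · rw [h5] at h4 ⊢
          exact (h1 _ _ hne).1 h4
        · rw [h5] at h4 ⊢
          have hn4 : n ≠ 4 := by omega
          rcases (h2 _ _ hne).1 (Or.inr ⟨hn4, h4⟩) with h6 | h6
          · exact absurd h6.1 hn4
          · exact h6.2
      obtain ⟨s, g1, g2, g3, g4, g5, g6⟩ := h3
      rw [i1] at g3 g4
      have hs : s = j := by omega
      subst hs
      have n1 : (π ⟨s + 2, hk⟩).val ≠ s := by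
        intro h6
        have := hinj ⟨s + 2, hk⟩ ⟨s, by omega⟩ (by rw [h6, i1])
        simp at this
      have n2 : (π ⟨s + 2, hk⟩).val ≠ s + 1 := by
        intro h6
        have := hinj ⟨s + 2, hk⟩ ⟨s + 1, by omega⟩ (by rw [h6, i2])
        simp at this
      omega
  ext i
  rw [Equiv.Perm.coe_one, id_eq]
  exact key i.val i.2

variable {K : Type u} [Field K]

theorem t_one {t : Fin n → Fin n → K} (ht : Mon t) (h : ∀ i j : Fin n, j.val = i.val + 1 → t i j = 1)
    (a b : Fin n) : t a b = 1 := by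
  have h0 : ∀ k (hk : k < n), t ⟨0, by omega⟩ ⟨k, hk⟩ = 1 := by
    intro k
    induction k with
    | zero => intro hk; exact ht.self _
    | succ k ih =>
      intro hk
      exact ht.trans (ih (by omega)) (h _ _ rfl)
  exact ht.trans (ht.symm (h0 a.val a.2)) (h0 b.val b.2)

theorem tri_succ (hn : 3 ≤ n) (i j : Fin n) (h : j.val = i.val + 1) : ∃ s, s + 2 < n ∧ tri n (s % 3) i j ∧
    s ≤ i.val ∧ i.val ≤ s + 1 := by
  have := j.2
  by_cases h1 : i.val + 2 < n
  · exact ⟨i.val, h1, ⟨i.val, rfl, h1, by omega, by omega, by omega, by omega⟩, by omega, by omega⟩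
  · exact ⟨i.val - 1, by omega, ⟨i.val - 1, rfl, by omega, by omega, by omega, by omega, by omega⟩, by omega,
      by omega⟩

theorem rigid3 [Finite K] {τ : K ≃+* K} (hinv : ∀ a, τ (τ a) = a) (hne : ∃ a, τ a ≠ a) (h4 : Nat.card K ≠ 4) :
    ∃ X : Fin 4 → Matrix (Fin 3) (Fin 3) K, (∀ r, Uni τ (X r)) ∧
      ∀ (π : Equiv.Perm (Fin 3)) (σ : K →+* K) (t : Fin 3 → Fin 3 → K), Mon t → (∀ r, Cmp τ (X r) π σ t) →
        π = 1 ∧ σ = RingHom.id K ∧ ∀ a b, t a b = 1 := by
  obtain ⟨c, hc, hc1, hcu, hcN⟩ := exists_c τ hinv hne h4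
  obtain ⟨ξ, hξ, hξ3, -, hσ⟩ := exists_xi τ hinv hne
  have hξ1 : ξ ≠ 1 := fun h => hξ3 h4 (by rw [h, one_pow])
  have hξ0 : ξ ≠ 0 := fun h => by
    rw [h, zero_mul] at hξ
    exact zero_ne_one hξ
  have hP : Part (ini 3 3) 3 := part_ini le_rfl
  have hI : ∀ a b : Fin 3, ini 3 3 a b := fun a b => ⟨a.2, b.2⟩
  have hE0 : ∀ i : Fin 3, (fun _ : Fin 3 => (1 : K)) i * τ ((fun _ : Fin 3 => (1 : K)) i) = 1 := fun i => by simp
  have hE : ∀ j i : Fin 3, Function.update (fun _ : Fin 3 => (1 : K)) j ξ i *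
      τ (Function.update (fun _ : Fin 3 => (1 : K)) j ξ i) = 1 := fun j i => by
    by_cases h : i = j
    · subst h
      simpa using hξ
    · simp [Function.update_of_ne h]
  refine ⟨![blk c (ini 3 3) fun _ => 1, blk c (ini 3 3) (Function.update (fun _ => 1) 1 ξ),
    blk c (ini 3 3) (Function.update (fun _ => 1) 0 ξ), blk c (ini 3 3) (Function.update (fun _ => 1) 0 ξ)],
    ?_, ?_⟩
  · intro r
    fin_cases r
    · exact uni_blk hP hcu hE0
    · exact uni_blk hP hcu (hE 1)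
    · exact uni_blk hP hcu (hE 0)
    · exact uni_blk hP hcu (hE 0)
  · intro π σ t ht hX
    have h0 : ∀ a b : Fin 3, a ≠ b → t a b = 1 := fun a b hab => by
      have := blk3 ht hP hc hc1 hcN hE0 (hX 0) hab (hI a b)
      simpa using this
    have h1 : ∀ a b : Fin 3, a ≠ b → _ := fun a b hab => blk3 ht hP hc hc1 hcN (hE 1) (hX 1) hab (hI a b)
    have h2 : ∀ a b : Fin 3, a ≠ b → _ := fun a b hab => blk3 ht hP hc hc1 hcN (hE 0) (hX 2) hab (hI a b)
    have fix : ∀ j a b : Fin 3, a ≠ b → a ≠ j → b ≠ j → (t a b * σ (Function.update (fun _ => (1 : K)) j ξ a *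
        (Function.update (fun _ => (1 : K)) j ξ b)⁻¹) = Function.update (fun _ => (1 : K)) j ξ (π a) *
        (Function.update (fun _ => (1 : K)) j ξ (π b))⁻¹) → π a ≠ j ∧ π b ≠ j := by
      intro j a b hab ha hb h
      rw [h0 a b hab, Function.update_of_ne ha, Function.update_of_ne hb, inv_one, mul_one, map_one, mul_one] at h
      constructor
      · intro h3
        have h4 : π b ≠ j := fun h4 => hab (π.injective (h3.trans h4.symm))
        rw [h3, Function.update_self, Function.update_of_ne h4, inv_one, mul_one] at h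
        exact hξ1 h.symm
      · intro h3
        have h4 : π a ≠ j := fun h4 => hab (π.injective (h4.trans h3.symm))
        rw [h3, Function.update_self, Function.update_of_ne h4, one_mul] at h
        exact hξ1 (inv_eq_one.1 h.symm)
    have p1 := fix 1 0 2 (by decide) (by decide) (by decide) (h1 0 2 (by decide))
    have p2 := fix 0 1 2 (by decide) (by decide) (by decide) (h2 1 2 (by decide))
    have hπ : π = 1 := by
      have aux : ∀ π : Equiv.Perm (Fin 3), (π 0 ≠ 1 ∧ π 2 ≠ 1) → (π 1 ≠ 0 ∧ π 2 ≠ 0) → π = 1 := by decide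
      exact aux π p1 p2
    subst hπ
    refine ⟨rfl, hσ σ ?_, fun a b => ?_⟩
    · have h3 := h1 1 0 (by decide)
      rw [h0 1 0 (by decide), Equiv.Perm.coe_one, id_eq, id_eq, Function.update_self,
        Function.update_of_ne (by decide), inv_one, mul_one, one_mul] at h3
      exact h3
    · by_cases hab : a = b
      · rw [hab]; exact ht.self b
      · exact h0 a b hab

/-- the common part of the two cases with `n ≥ 4` -/
theorem perm_one' (hn : 4 ≤ n) {τ : K ≃+* K} {π : Equiv.Perm (Fin n)} {σ : K →+* K} {t : Fin n → Fin n → K}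
    (ht : Mon t) {c : K} (hc : c ≠ 0) (h0 : Cmp τ (blk c (tri n 0) fun _ => 1) π σ t)
    (h1 : Cmp τ (blk c (tri n 1) fun _ => 1) π σ t) (h2 : Cmp τ (blk c (tq n) fun _ => 1) π σ t)
    {c' : K} (hc' : c' ≠ 0) {m : ℕ} (hm : 3 ≤ m) (hm4 : m ≤ 4) {E : Fin n → K} (hE : ∀ i, E i ≠ 0)
    (h3 : Cmp τ (blk c' (ini n m) E) π σ t) : π = 1 := by
  have h1' : ∀ i : Fin n, (fun _ : Fin n => (1 : K)) i ≠ 0 := fun _ => one_ne_zero
  refine perm_one hn π ?_ (fun a b hab => rel_perm ht (part_tri n 0) le_rfl hc h1' h0 hab)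
    (fun a b hab => rel_perm ht (part_tri n 1) le_rfl hc h1' h1 hab)
    (fun a b hab => rel_perm ht (part_tq n) le_rfl hc h1' h2 hab)
  have h4 := (rel_perm ht (part_ini (by omega : m ≤ n)) hm hc' hE h3 (a := ⟨0, by omega⟩) (b := ⟨1, by omega⟩)
    (by simp [Fin.ext_iff])).1 ⟨by simp only; omega, by simp only; omega⟩
  have := h4.1
  omega

theorem rigidA [Finite K] (hn : 4 ≤ n) {τ : K ≃+* K} (hinv : ∀ a, τ (τ a) = a) (hne : ∃ a, τ a ≠ a)
    (h4 : Nat.card K ≠ 4) : ∃ X : Fin 4 → Matrix (Fin n) (Fin n) K, (∀ r, Uni τ (X r)) ∧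
      ∀ (π : Equiv.Perm (Fin n)) (σ : K →+* K) (t : Fin n → Fin n → K), Mon t → (∀ r, Cmp τ (X r) π σ t) →
        π = 1 ∧ σ = RingHom.id K ∧ ∀ a b, t a b = 1 := by
  obtain ⟨c, hc, hc1, hcu, hcN⟩ := exists_c τ hinv hne h4
  obtain ⟨ξ, hξ, hξ3, -, hσ⟩ := exists_xi τ hinv hne
  have hξ0 : ξ ≠ 0 := fun h => by
    rw [h, zero_mul] at hξ
    exact zero_ne_one hξ
  have hE0 : ∀ i : Fin n, (fun _ : Fin n => (1 : K)) i * τ ((fun _ : Fin n => (1 : K)) i) = 1 := fun i => by simp
  have hE : ∀ j i : Fin n, Function.update (fun _ : Fin n => (1 : K)) j ξ i *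
      τ (Function.update (fun _ : Fin n => (1 : K)) j ξ i) = 1 := fun j i => by
    by_cases h : i = j
    · subst h
      simpa using hξ
    · simp [Function.update_of_ne h]
  have hE' : ∀ j i : Fin n, Function.update (fun _ : Fin n => (1 : K)) j ξ i ≠ 0 := fun j i h => by
    have := hE j i
    rw [h, zero_mul] at this
    exact zero_ne_one this
  have hP : Part (ini n 3) 3 := part_ini (by omega)
  refine ⟨![blk c (tri n 0) fun _ => 1, blk c (tri n 1) fun _ => 1, blk c (tq n) fun _ => 1,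
    blk c (ini n 3) (Function.update (fun _ => 1) ⟨1, by omega⟩ ξ)], ?_, ?_⟩
  · intro r
    fin_cases r
    · exact uni_blk (part_tri n 0) hcu hE0
    · exact uni_blk (part_tri n 1) hcu hE0
    · exact uni_blk (part_tq n) hcu hE0
    · exact uni_blk hP hcu (hE _)
  · intro π σ t ht hX
    have hπ : π = 1 := perm_one' hn ht hc (hX 0) (hX 1) (hX 2) hc le_rfl (by norm_num) (hE' _) (hX 3)
    subst hπ
    have h0 : ∀ a b : Fin n, a ≠ b → tri n 0 a b → t a b = 1 := fun a b hab h => by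
      have := blk3 ht (part_tri n 0) hc hc1 hcN hE0 (hX 0) hab h
      simpa using this
    have h1 : ∀ a b : Fin n, a ≠ b → tri n 1 a b → t a b = 1 := fun a b hab h => by
      have := blk3 ht (part_tri n 1) hc hc1 hcN hE0 (hX 1) hab h
      simpa using this
    have h2 : ∀ a b : Fin n, a ≠ b → tq n a b → t a b = 1 := fun a b hab h => by
      have := blk3 ht (part_tq n) hc hc1 hcN hE0 (hX 2) hab h
      simpa using this
    have ht1 : ∀ a b, t a b = 1 := by
      refine t_one ht fun i j hij => ?_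
      have hne : i ≠ j := fun h => by rw [h] at hij; omega
      obtain ⟨s, hs, h5, h6, h7⟩ := tri_succ (by omega) i j hij
      have h8 : s % 3 = 0 ∨ s % 3 = 1 ∨ s % 3 = 2 := by omega
      rcases h8 with h8 | h8 | h8
      · rw [h8] at h5
        exact h0 i j hne h5
      · rw [h8] at h5
        exact h1 i j hne h5
      · rw [h8] at h5
        exact h2 i j hne (Or.inr ⟨by omega, h5⟩)
    refine ⟨rfl, hσ σ ?_, ht1⟩
    have h3 := blk3 ht hP hc hc1 hcN (hE ⟨1, by omega⟩) (hX 3) (a := ⟨1, by omega⟩) (b := ⟨0, by omega⟩)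
      (by simp [Fin.ext_iff]) ⟨by simp, by simp⟩
    rw [ht1, Equiv.Perm.coe_one, id_eq, id_eq, Function.update_self,
      Function.update_of_ne (by simp [Fin.ext_iff]), inv_one, mul_one, one_mul] at h3
    exact h3

theorem rigidB [Finite K] (hn : 4 ≤ n) {τ : K ≃+* K} (hinv : ∀ a, τ (τ a) = a) (hne : ∃ a, τ a ≠ a)
    (h4 : Nat.card K = 4) : ∃ X : Fin 4 → Matrix (Fin n) (Fin n) K, (∀ r, Uni τ (X r)) ∧
      ∀ (π : Equiv.Perm (Fin n)) (σ : K →+* K) (t : Fin n → Fin n → K), Mon t → (∀ r, Cmp τ (X r) π σ t) →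
        π = 1 ∧ σ = RingHom.id K ∧ ∀ a b, t a b = 1 := by
  obtain ⟨ω, hω, -, hω2, hσ⟩ := exists_xi τ hinv hne
  have hω2 := hω2 h4
  have h2 := card_four h4
  have hω0 : ω ≠ 0 := fun h => by
    rw [h, zero_mul] at hω
    exact zero_ne_one hω
  have hτω : τ ω = 1 + ω := by
    have h5 : ω * τ ω = ω * (1 + ω) := by
      rw [hω]
      linear_combination h2 - hω2
    exact mul_left_cancel₀ hω0 h5
  have hE0 : ∀ i : Fin n, (fun _ : Fin n => (1 : K)) i * τ ((fun _ : Fin n => (1 : K)) i) = 1 := fun i => by simp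
  have h1' : ∀ i : Fin n, (fun _ : Fin n => (1 : K)) i ≠ 0 := fun _ => one_ne_zero
  have hP : Part (ini n 4) 4 := part_ini (by omega)
  have hcu : ω + τ ω + (3 : ℕ) * (ω * τ ω) = 0 := by
    rw [hτω]
    push_cast
    linear_combination 3 * hω2 + (ω - 1) * h2
  have hcu' : (1 : K) + τ 1 + (4 : ℕ) * (1 * τ 1) = 0 := by
    rw [map_one]
    push_cast
    linear_combination 3 * h2
  refine ⟨![blk ω (tri n 0) fun _ => 1, blk ω (tri n 1) fun _ => 1, blk ω (tq n) fun _ => 1,
    blk 1 (ini n 4) fun _ => 1], ?_, ?_⟩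
  · intro r
    fin_cases r
    · exact uni_blk (part_tri n 0) hcu hE0
    · exact uni_blk (part_tri n 1) hcu hE0
    · exact uni_blk (part_tq n) hcu hE0
    · exact uni_blk hP hcu' hE0
  · intro π σ t ht hX
    have hπ : π = 1 := perm_one' hn ht hω0 (hX 0) (hX 1) (hX 2) one_ne_zero (by norm_num) le_rfl h1' (hX 3)
    subst hπ
    have hT : ∀ a b : Fin n, a ≠ b → ini n 4 a b → t a b = 1 := fun a b hab h =>
      blk4 ht hP (by norm_num) h2 (hX 3) hab h
    have hσω : σ ω = ω := by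
      have h5 := blk3two ht (part_tri n 0) h2 hω2 hτω (hX 0) (a := ⟨0, by omega⟩) (b := ⟨1, by omega⟩)
        (d := ⟨2, by omega⟩) (by simp [Fin.ext_iff]) (by simp [Fin.ext_iff]) (by simp [Fin.ext_iff])
        ⟨0, rfl, by omega, by simp, by simp, by simp, by simp⟩ ⟨0, rfl, by omega, by simp, by simp, by simp, by simp⟩
      rw [hT ⟨0, by omega⟩ ⟨1, by omega⟩ (by simp [Fin.ext_iff]) ⟨by simp, by simp⟩,
        hT ⟨0, by omega⟩ ⟨2, by omega⟩ (by simp [Fin.ext_iff]) ⟨by simp, by simp⟩, one_mul, one_mul] at h5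
      exact h5
    -- products on a triple
    have key : ∀ s (hs : s + 2 < n), t ⟨s, by omega⟩ ⟨s + 1, by omega⟩ * t ⟨s, by omega⟩ ⟨s + 2, hs⟩ = 1 := by
      intro s hs
      have n1 : (⟨s, by omega⟩ : Fin n) ≠ ⟨s + 1, by omega⟩ := by simp [Fin.ext_iff]
      have n2 : (⟨s, by omega⟩ : Fin n) ≠ ⟨s + 2, by omega⟩ := by simp [Fin.ext_iff]
      have n3 : (⟨s + 1, by omega⟩ : Fin n) ≠ ⟨s + 2, by omega⟩ := by simp [Fin.ext_iff]
      have t1 : tri n (s % 3) ⟨s, by omega⟩ ⟨s + 1, by omega⟩ := ⟨s, rfl, hs, by simp, by simp, by simp, by simp⟩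
      have t2 : tri n (s % 3) ⟨s, by omega⟩ ⟨s + 2, by omega⟩ := ⟨s, rfl, hs, by simp, by simp, by simp, by simp⟩
      have h8 : s % 3 = 0 ∨ s % 3 = 1 ∨ s % 3 = 2 := by omega
      have h9 : t ⟨s, by omega⟩ ⟨s + 1, by omega⟩ * t ⟨s, by omega⟩ ⟨s + 2, hs⟩ * σ ω = ω := by
        rcases h8 with h8 | h8 | h8
        · rw [h8] at t1 t2
          exact blk3two ht (part_tri n 0) h2 hω2 hτω (hX 0) n1 n2 n3 t1 t2
        · rw [h8] at t1 t2
          exact blk3two ht (part_tri n 1) h2 hω2 hτω (hX 1) n1 n2 n3 t1 t2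
        · rw [h8] at t1 t2
          exact blk3two ht (part_tq n) h2 hω2 hτω (hX 2) n1 n2 n3 (Or.inr ⟨by omega, t1⟩) (Or.inr ⟨by omega, t2⟩)
      rw [hσω] at h9
      exact mul_right_cancel₀ hω0 (h9.trans (one_mul _).symm)
    have hk : ∀ k (hk : k + 1 < n), t ⟨k, by omega⟩ ⟨k + 1, hk⟩ = 1 := by
      intro k
      induction k with
      | zero => intro hk; exact hT _ _ (by simp [Fin.ext_iff]) ⟨by simp, by simp⟩
      | succ k ih =>
        intro hk
        have h5 := key k (by omega)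
        rw [ih (by omega), one_mul] at h5
        exact ht.trans (ht.symm (ih (by omega))) h5
    refine ⟨rfl, hσ σ hσω, t_one ht fun i j hij => ?_⟩
    have h5 := hk i.val (by omega)
    have h6 : (⟨i.val + 1, by omega⟩ : Fin n) = j := Fin.ext hij.symm
    rw [h6] at h5
    exact h5

/-- **four unitary matrices rigidify an orthonormal frame** -/
theorem exists_rigid [Finite K] {τ : K ≃+* K} (hinv : ∀ a, τ (τ a) = a) (hne : ∃ a, τ a ≠ a) (hn : 3 ≤ n)
    (h34 : n = 3 → Nat.card K ≠ 4) : ∃ X : Fin 4 → Matrix (Fin n) (Fin n) K, (∀ r, Uni τ (X r)) ∧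
      ∀ (π : Equiv.Perm (Fin n)) (σ : K →+* K) (t : Fin n → Fin n → K), Mon t → (∀ r, Cmp τ (X r) π σ t) →
        π = 1 ∧ σ = RingHom.id K ∧ ∀ a b, t a b = 1 := by
  by_cases h3 : n = 3
  · subst h3
    exact rigid3 hinv hne (h34 rfl)
  · by_cases h4 : Nat.card K = 4
    · exact rigidB (by omega) hinv hne h4
    · exact rigidA (by omega) hinv hne h4

end Cfsg.Agent.H324.FC
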